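import Mathlib
import Groth.Prelude.Def_GrLC
import Groth.Prelude.Def_GrSeg
import Groth.Agent.Lib.Helper9.GrLC.Basic
import Groth.Agent.Lib.Helper9.GrLC.Pos
import Groth.Agent.Lib.Helper9.GrLC.Trans

/-!
# Graded `k`-duals of graded modules over a connected graded `k`-algebra: basic facts
-/

set_option autoImplicit false
set_option linter.unusedSectionVars false
universe u
open DirectSum

namespace Groth.Agent.Helper9.GDualLib

open Groth.Agent.Helper9.GrLCLib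

variable (k : Type u) [Field k] {R : Type u} [CommRing R] [Algebra k R]
  (𝒜 : ℤ → AddSubgroup R) [GradedRing 𝒜]

/-- a positively graded ring with degree-zero part the field `k` -/
structure IsConn : Prop where
  pos : ∀ n : ℤ, n < 0 → 𝒜 n = ⊥
  alg_mem : ∀ c : k, algebraMap k R c ∈ 𝒜 0
  zero : ∀ r ∈ 𝒜 0, ∃ c : k, algebraMap k R c = r

variable {k}

section Piece

variable {M : Type u} [AddCommGroup M] [Module R M] [Module k M] [IsScalarTower k R M]
  (ℳ : ℤ → AddSubgroup M) [DirectSum.Decomposition ℳ] [SetLike.GradedSMul 𝒜 ℳ]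

include 𝒜 in
lemma smul_mem_piece (h : IsConn k 𝒜) (c : k) {n : ℤ} {x : M} (hx : x ∈ ℳ n) : c • x ∈ ℳ n := by
  rw [← algebraMap_smul R c x]
  have := smul_mem_add 𝒜 ℳ (h.alg_mem c) hx
  rwa [zero_add] at this

/-- the piece of degree `n` as a `k`-subspace -/
def pieceK (h : IsConn k 𝒜) (n : ℤ) : Submodule k M where
  carrier := ℳ n
  add_mem' := add_mem
  zero_mem' := zero_mem _
  smul_mem' c _ hx := smul_mem_piece 𝒜 ℳ h c hx

lemma mem_pieceK (h : IsConn k 𝒜) (n : ℤ) (x : M) : x ∈ pieceK 𝒜 ℳ h n ↔ x ∈ ℳ n := Iff.rfl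

lemma proj_smulK (h : IsConn k 𝒜) (c : k) (x : M) (n : ℤ) :
    proj ℳ n (c • x) = c • proj ℳ n x := by
  rw [← algebraMap_smul R c x, proj_smul_of_mem' 𝒜 ℳ (h.alg_mem c) x n, sub_zero, algebraMap_smul]

/-- the component of degree `n` as a `k`-linear map -/
noncomputable def projK (h : IsConn k 𝒜) (n : ℤ) : M →ₗ[k] M where
  toFun := proj ℳ n
  map_add' := map_add _
  map_smul' c x := proj_smulK 𝒜 ℳ h c x n

lemma projK_apply (h : IsConn k 𝒜) (n : ℤ) (x : M) : projK 𝒜 ℳ h n x = proj ℳ n x := rfl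

end Piece

section Pair

variable {M : Type u} [AddCommGroup M] [Module R M] [Module k M] [IsScalarTower k R M]
  (ℳ : ℤ → AddSubgroup M) [DirectSum.Decomposition ℳ] [SetLike.GradedSMul 𝒜 ℳ]
  {D : Type u} [AddCommGroup D] [Module R D] [Module k D] [IsScalarTower k R D]
  (𝒟 : ℤ → AddSubgroup D) [DirectSum.Decomposition 𝒟] [SetLike.GradedSMul 𝒜 𝒟]
  (β : D →ₗ[k] M →ₗ[k] k) (hD : GrSeg.IsGDual R ℳ 𝒟 β)

include hD in
lemma pair_eq_proj_right {n : ℤ} {d : D} (hd : d ∈ 𝒟 n) (x : M) :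
    β d x = β d (proj ℳ (-n) x) := by
  induction x using DirectSum.Decomposition.inductionOn ℳ with
  | zero => simp
  | @homogeneous m y =>
    by_cases hm : m = -n
    · subst hm
      rw [proj_of_mem_same ℳ y.2]
    · rw [proj_of_mem_ne ℳ y.2 hm, map_zero]
      exact hD.vanish n d hd m hm y y.2
  | add x y hx hy => rw [map_add, map_add, map_add, hx, hy]

include hD in
lemma pair_eq_proj_left {m : ℤ} {x : M} (hx : x ∈ ℳ m) (d : D) :
    β d x = β (proj 𝒟 (-m) d) x := by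
  induction d using DirectSum.Decomposition.inductionOn 𝒟 with
  | zero => simp
  | @homogeneous n e =>
    by_cases hn : n = -m
    · subst hn
      rw [proj_of_mem_same 𝒟 e.2]
    · rw [proj_of_mem_ne 𝒟 e.2 hn, map_zero, LinearMap.zero_apply]
      exact hD.vanish n e e.2 m (fun h => hn (by omega)) x hx
  | add d e hd he => rw [map_add, map_add, map_add, LinearMap.add_apply, LinearMap.add_apply, hd, he]

include hD in
/-- the pairing is nondegenerate on the left -/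
lemma sepD (d : D) (h : ∀ x, β d x = 0) : d = 0 := by
  apply Pos.eq_zero_of_proj_eq_zero 𝒟
  intro n
  apply hD.eq_zero n _ (proj_mem 𝒟 n d)
  intro x hx
  have := pair_eq_proj_left ℳ 𝒟 β hD hx d
  rw [neg_neg] at this
  rw [← this]
  exact h x

include hD in
/-- the pairing is nondegenerate on the right -/
lemma sepM (y : M) (h : ∀ d, β d y = 0) : y = 0 := by
  apply Pos.eq_zero_of_proj_eq_zero ℳ
  intro m
  by_contra hne
  obtain ⟨g, hg⟩ : ∃ g : Module.Dual k M, g (proj ℳ m y) ≠ 0 := by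
    by_contra hcon
    apply hne
    apply (Module.forall_dual_apply_eq_zero_iff k _).mp
    intro φ
    by_contra hφ
    exact hcon ⟨φ, hφ⟩
  obtain ⟨d, hd, hdg⟩ := hD.exists_eq (-m) g
  have h1 := pair_eq_proj_right ℳ 𝒟 β hD hd y
  rw [neg_neg] at h1
  have h2 := hdg (proj ℳ m y) (by rw [neg_neg]; exact proj_mem ℳ m y)
  rw [← h1, h d] at h2
  exact hg h2.symm

end Pair

section Fin

variable {M : Type u} [AddCommGroup M] [Module R M] [Module k M] [IsScalarTower k R M]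
  (ℳ : ℤ → AddSubgroup M) [DirectSum.Decomposition ℳ] [SetLike.GradedSMul 𝒜 ℳ]

/-- homogeneous elements of degree `n` in the `R`-span of a `k`-subspace of `M_n` lie in the subspace -/
lemma mem_of_mem_span_piece (h : IsConn k 𝒜) (n : ℤ) (W : Submodule k M)
    (hW : W ≤ pieceK 𝒜 ℳ h n) {x : M} (hx : x ∈ ℳ n)
    (hxs : x ∈ Submodule.span R (W : Set M)) : x ∈ W := by
  obtain ⟨m, f, g, hfg⟩ := Submodule.mem_span_set'.mp hxs
  have h1 : x = ∑ i, proj ℳ n (f i • (g i : M)) := by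
    rw [← map_sum, hfg]; exact (proj_of_mem_same ℳ hx).symm
  rw [h1]
  refine Submodule.sum_mem _ (fun i _ => ?_)
  have hgn : ((g i : (W : Set M)) : M) ∈ ℳ n := hW (g i).2
  rw [proj_smul_of_mem_right' 𝒜 ℳ hgn (f i) n, sub_self]
  obtain ⟨c, hc⟩ := h.zero _ (decompose 𝒜 (f i) 0).2
  rw [← hc, algebraMap_smul]
  exact Submodule.smul_mem _ _ (g i).2

/-- the `R`-span of the image of a subspace of a piece -/
def spanOf (h : IsConn k 𝒜) (n : ℤ) (W : Submodule k (pieceK 𝒜 ℳ h n)) : Submodule R M :=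
  Submodule.span R ((W.map (pieceK 𝒜 ℳ h n).subtype : Submodule k M) : Set M)

lemma spanOf_le_iff (h : IsConn k 𝒜) (n : ℤ) (W W' : Submodule k (pieceK 𝒜 ℳ h n)) :
    spanOf 𝒜 ℳ h n W ≤ spanOf 𝒜 ℳ h n W' ↔ W ≤ W' := by
  constructor
  · intro hle x hx
    have h1 : (x : M) ∈ spanOf 𝒜 ℳ h n W' :=
      hle (Submodule.subset_span ⟨x, hx, rfl⟩)
    have h2 := mem_of_mem_span_piece 𝒜 ℳ h n (W'.map (pieceK 𝒜 ℳ h n).subtype)
      (by rintro _ ⟨y, _, rfl⟩; exact y.2) x.2 h1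
    obtain ⟨y, hy, hyx⟩ := h2
    have : y = x := Subtype.ext hyx
    rwa [← this]
  · intro hle
    exact Submodule.span_mono (fun _ ⟨y, hy, hyx⟩ => ⟨y, hle hy, hyx⟩)

lemma spanOf_strictMono (h : IsConn k 𝒜) (n : ℤ) : StrictMono (spanOf 𝒜 ℳ h n) :=
  strictMono_of_le_iff_le (fun W W' => (spanOf_le_iff 𝒜 ℳ h n W W').symm)

/-- the pieces of a Noetherian graded module are finite-dimensional -/
lemma finite_piece_of_isNoetherian (h : IsConn k 𝒜) [IsNoetherian R M] (n : ℤ) :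
    Module.Finite k (pieceK 𝒜 ℳ h n) := by
  have : WellFoundedGT (Submodule k (pieceK 𝒜 ℳ h n)) := (spanOf_strictMono 𝒜 ℳ h n).wellFoundedGT
  have : IsNoetherian k (pieceK 𝒜 ℳ h n) := isNoetherian_iff'.mpr this
  infer_instance

/-- the pieces of an Artinian graded module are finite-dimensional -/
lemma finite_piece_of_isArtinian (h : IsConn k 𝒜) [IsArtinian R M] (n : ℤ) :
    Module.Finite k (pieceK 𝒜 ℳ h n) := by
  have : WellFoundedLT (Submodule k (pieceK 𝒜 ℳ h n)) := (spanOf_strictMono 𝒜 ℳ h n).wellFoundedLT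
  have : IsArtinian k (pieceK 𝒜 ℳ h n) := ⟨this.wf⟩
  exact (IsSemisimpleModule.finite_tfae.out 0 2).mpr this

end Fin

section Perfect

variable {M : Type u} [AddCommGroup M] [Module R M] [Module k M] [IsScalarTower k R M]
  (ℳ : ℤ → AddSubgroup M) [DirectSum.Decomposition ℳ] [SetLike.GradedSMul 𝒜 ℳ]
  {D : Type u} [AddCommGroup D] [Module R D] [Module k D] [IsScalarTower k R D]
  (𝒟 : ℤ → AddSubgroup D) [DirectSum.Decomposition 𝒟] [SetLike.GradedSMul 𝒜 𝒟]
  (β : D →ₗ[k] M →ₗ[k] k) (hD : GrSeg.IsGDual R ℳ 𝒟 β)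

/-- the pairing `D_{-n} → (M_n)^*` -/
noncomputable def pieceDual (h : IsConn k 𝒜) (n : ℤ) :
    pieceK 𝒜 𝒟 h (-n) →ₗ[k] Module.Dual k (pieceK 𝒜 ℳ h n) :=
  (LinearMap.lcomp k k (pieceK 𝒜 ℳ h n).subtype).comp (β.comp (pieceK 𝒜 𝒟 h (-n)).subtype)

lemma pieceDual_apply (h : IsConn k 𝒜) (n : ℤ) (d : pieceK 𝒜 𝒟 h (-n)) (x : pieceK 𝒜 ℳ h n) :
    pieceDual 𝒜 ℳ 𝒟 β h n d x = β d x := rfl

include hD in
lemma pieceDual_bijective (h : IsConn k 𝒜) (n : ℤ) :
    Function.Bijective (pieceDual 𝒜 ℳ 𝒟 β h n) := by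
  constructor
  · rw [injective_iff_map_eq_zero]
    intro d hd
    apply Subtype.ext
    apply hD.eq_zero (-n) d d.2
    intro x hx
    rw [neg_neg] at hx
    exact LinearMap.congr_fun hd ⟨x, hx⟩
  · intro ψ
    obtain ⟨g, hg⟩ := LinearMap.exists_extend ψ
    obtain ⟨d, hd, hdg⟩ := hD.exists_eq (-n) g
    refine ⟨⟨d, hd⟩, ?_⟩
    apply LinearMap.ext
    intro x
    rw [pieceDual_apply]
    have := hdg x (by rw [neg_neg]; exact x.2)
    rw [this, ← hg]
    rfl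

include hD in
/-- if `M_n` is finite-dimensional, every functional on `D` is represented on `D_{-n}` by an element of `M_n` -/
lemma exists_repr (h : IsConn k 𝒜) (n : ℤ) [Module.Finite k (pieceK 𝒜 ℳ h n)] (φ : D →ₗ[k] k) :
    ∃ y ∈ ℳ n, ∀ d ∈ 𝒟 (-n), β d y = φ d := by
  let Ψ := LinearEquiv.ofBijective (pieceDual 𝒜 ℳ 𝒟 β h n) (pieceDual_bijective 𝒜 ℳ 𝒟 β hD h n)
  let θ : Module.Dual k (Module.Dual k (pieceK 𝒜 ℳ h n)) :=
    (φ.comp (pieceK 𝒜 𝒟 h (-n)).subtype).comp Ψ.symm.toLinearMap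
  let y := (Module.evalEquiv k (pieceK 𝒜 ℳ h n)).symm θ
  refine ⟨y, y.2, fun d hd => ?_⟩
  have h1 : (Ψ ⟨d, hd⟩) y = θ (Ψ ⟨d, hd⟩) := Module.apply_evalEquiv_symm_apply _ _ _ _
  have h2 : θ (Ψ ⟨d, hd⟩) = φ d := by
    change φ ((Ψ.symm (Ψ ⟨d, hd⟩) : pieceK 𝒜 𝒟 h (-n)) : D) = φ d
    rw [LinearEquiv.symm_apply_apply]
  rw [← h2, ← h1]
  rfl

include hD in
/-- the transposed pairing presents `M` as the graded dual of `D` when the pieces of `M` are finite-dimensional -/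
lemma isGDual_flip (h : IsConn k 𝒜) (hfd : ∀ n, Module.Finite k (pieceK 𝒜 ℳ h n)) :
    GrSeg.IsGDual R 𝒟 ℳ β.flip where
  map_smul r x d := (hD.map_smul r d x).symm
  vanish n x hx m hm d hd := hD.vanish m d hd n (fun h' => hm (by omega)) x hx
  eq_zero n x hx hx0 := by
    apply sepM ℳ 𝒟 β hD
    intro d
    rw [pair_eq_proj_left ℳ 𝒟 β hD hx d]
    exact hx0 _ (proj_mem 𝒟 (-n) d)
  exists_eq n φ := by
    have := hfd n
    exact exists_repr 𝒜 ℳ 𝒟 β hD h n φ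

end Perfect

section DualMap

variable (𝒜 : ℤ → AddSubgroup R) [GradedRing 𝒜]
variable {M : Type u} [AddCommGroup M] [Module R M] [Module k M] [IsScalarTower k R M]
  (ℳ : ℤ → AddSubgroup M) [DirectSum.Decomposition ℳ] [SetLike.GradedSMul 𝒜 ℳ]
  {DM : Type u} [AddCommGroup DM] [Module R DM] [Module k DM] [IsScalarTower k R DM]
  (𝒟M : ℤ → AddSubgroup DM) [DirectSum.Decomposition 𝒟M] [SetLike.GradedSMul 𝒜 𝒟M]
  (βM : DM →ₗ[k] M →ₗ[k] k) (hDM : GrSeg.IsGDual R ℳ 𝒟M βM)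
  {F : Type u} [AddCommGroup F] [Module R F] [Module k F] [IsScalarTower k R F]
  (ℱ : ℤ → AddSubgroup F) [DirectSum.Decomposition ℱ] [SetLike.GradedSMul 𝒜 ℱ]
  {DF : Type u} [AddCommGroup DF] [Module R DF] [Module k DF] [IsScalarTower k R DF]
  (𝒟F : ℤ → AddSubgroup DF) [DirectSum.Decomposition 𝒟F] [SetLike.GradedSMul 𝒜 𝒟F]
  (βF : DF →ₗ[k] F →ₗ[k] k) (hDF : GrSeg.IsGDual R ℱ 𝒟F βF)
  (g : DM →ₗ[R] DF) (hg : GrLC.IsGrHom 𝒟M 𝒟F g)

include hDM hDF hg in
/-- pointwise existence of the predual map on homogeneous elements -/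
lemma exists_predual_homog (h : IsConn k 𝒜) (hfd : ∀ n, Module.Finite k (pieceK 𝒜 ℳ h n))
    {n : ℤ} {x : F} (hx : x ∈ ℱ n) :
    ∃ y ∈ ℳ n, ∀ d : DM, βM d y = βF (g d) x := by
  have := hfd n
  obtain ⟨y, hy, hyd⟩ := exists_repr 𝒜 ℳ 𝒟M βM hDM h n
    ((βF.flip x).comp (g.restrictScalars k))
  refine ⟨y, hy, fun d => ?_⟩
  rw [pair_eq_proj_left ℳ 𝒟M βM hDM hy d, hyd _ (proj_mem 𝒟M (-n) d)]
  change βF (g (proj 𝒟M (-n) d)) x = _
  rw [← proj_map_of_isGrHom 𝒟M 𝒟F hg d (-n), ← pair_eq_proj_left ℱ 𝒟F βF hDF hx (g d)]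

include hDM hDF hg in
lemma exists_predual (h : IsConn k 𝒜) (hfd : ∀ n, Module.Finite k (pieceK 𝒜 ℳ h n)) (x : F) :
    ∃ y : M, ∀ d : DM, βM d y = βF (g d) x := by
  induction x using DirectSum.Decomposition.inductionOn ℱ with
  | zero => exact ⟨0, fun d => by simp⟩
  | @homogeneous n x =>
    obtain ⟨y, _, hy⟩ := exists_predual_homog 𝒜 ℳ 𝒟M βM hDM ℱ 𝒟F βF hDF g hg h hfd x.2
    exact ⟨y, hy⟩
  | add x x' hx hx' =>
    obtain ⟨y, hy⟩ := hx
    obtain ⟨y', hy'⟩ := hx'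
    exact ⟨y + y', fun d => by rw [map_add, map_add, hy, hy']⟩

include hDM hDF hg in
/-- **graded maps between graded duals of finitely generated modules are dual maps** -/
theorem existsUnique_predual (h : IsConn k 𝒜) (hfd : ∀ n, Module.Finite k (pieceK 𝒜 ℳ h n)) :
    ∃! f : F →ₗ[R] M, GrLC.IsGrHom ℱ ℳ f ∧ GrSeg.IsGDualMap βM βF f g := by
  choose f0 hf0 using exists_predual 𝒜 ℳ 𝒟M βM hDM ℱ 𝒟F βF hDF g hg h hfd
  have huniq : ∀ (x : F) (y : M), (∀ d : DM, βM d y = βF (g d) x) → y = f0 x := by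
    intro x y hy
    rw [← sub_eq_zero]
    apply sepM ℳ 𝒟M βM hDM
    intro d
    rw [map_sub, hy, hf0, sub_self]
  let f : F →ₗ[R] M :=
    { toFun := f0
      map_add' := fun x x' => by
        symm
        apply huniq
        intro d
        rw [map_add, map_add, hf0, hf0]
      map_smul' := fun r x => by
        symm
        apply huniq
        intro d
        rw [RingHom.id_apply, ← hDM.map_smul, hf0, map_smul, hDF.map_smul] }
  refine ⟨f, ⟨?_, fun d x => (hf0 x d).symm⟩, ?_⟩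
  · intro n x hx
    obtain ⟨y, hy, hyd⟩ := exists_predual_homog 𝒜 ℳ 𝒟M βM hDM ℱ 𝒟F βF hDF g hg h hfd hx
    have : y = f0 x := huniq x y hyd
    change f0 x ∈ ℳ n
    rw [← this]
    exact hy
  · rintro f' ⟨_, hf'⟩
    apply LinearMap.ext
    intro x
    exact huniq x (f' x) (fun d => (hf' d x).symm)

end DualMap

section ToAG

variable {k : Type u} [Field k] {R : Type u} [CommRing R] [Algebra k R]
  (𝒜 : ℤ → Submodule k R) [GradedAlgebra 𝒜]

/-- the standing hypotheses of the rows give `IsConn` for the underlying additive subgroups -/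
lemma isConn_toAG (hposR : ∀ n : ℤ, n < 0 → 𝒜 n = ⊥) (h0R : 𝒜 0 = Submodule.span k {(1 : R)}) :
    IsConn k (Trans.toAG 𝒜) where
  pos n hn := by
    rw [eq_bot_iff]
    intro p hp
    have h1 : p ∈ 𝒜 n := hp
    rw [hposR n hn] at h1
    exact AddSubgroup.mem_bot.mpr ((Submodule.mem_bot k).mp h1)
  alg_mem c := by
    change algebraMap k R c ∈ 𝒜 0
    rw [Algebra.algebraMap_eq_smul_one]
    exact Submodule.smul_mem _ _ (SetLike.GradedOne.one_mem (A := 𝒜))
  zero r hr := by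
    have h1 : r ∈ 𝒜 0 := hr
    rw [h0R] at h1
    obtain ⟨c, hc⟩ := Submodule.mem_span_singleton.mp h1
    exact ⟨c, by rw [Algebra.algebraMap_eq_smul_one, hc]⟩

end ToAG

end Groth.Agent.Helper9.GDualLib
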