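import Mathlib
import Groth.Prelude.Def_GrLC
import Groth.Prelude.Def_GrSeg
import Groth.Agent.Lib.Helper9.GDual.Basic
import Groth.Agent.Lib.Helper9.GrLC.Ess

/-!
# The graded `k`-dual `R^*` of a connected graded `k`-algebra is the *injective hull of `k`
-/

set_option autoImplicit false
set_option linter.unusedSectionVars false
universe u
open DirectSum

namespace Groth.Agent.Helper9.GDualLib

open Groth.Agent.Helper9.GrLCLib

variable {k : Type u} [Field k] {R : Type u} [CommRing R] [Algebra k R]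
  (𝒜 : ℤ → AddSubgroup R) [GradedRing 𝒜]
  {D : Type u} [AddCommGroup D] [Module R D] [Module k D] [IsScalarTower k R D]
  (𝒟 : ℤ → AddSubgroup D) [DirectSum.Decomposition 𝒟] [SetLike.GradedSMul 𝒜 𝒟]
  (β : D →ₗ[k] R →ₗ[k] k) (hD : GrSeg.IsGDual R 𝒜 𝒟 β)

section Inj

include hD in
lemma pair_eq_pair_one (d : D) (r : R) : β d r = β (r • d) 1 := by
  rw [hD.map_smul, smul_eq_mul, mul_one]

include hD in
/-- **`R^*` is *injective** -/
theorem isStarInj_selfDual (h : IsConn k 𝒜) : GrLC.IsStarInj 𝒜 𝒟 := by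
  intro A B f hf hfinj g hg
  let _ : Module k A.carrier := Module.compHom A.carrier (algebraMap k R)
  let _ : Module k B.carrier := Module.compHom B.carrier (algebraMap k R)
  have : IsScalarTower k R A.carrier := IsScalarTower.of_algebraMap_smul (fun _ _ => rfl)
  have : IsScalarTower k R B.carrier := IsScalarTower.of_algebraMap_smul (fun _ _ => rfl)
  obtain ⟨φ, hφ⟩ := (f.restrictScalars k).exists_leftInverse_of_injective
    (by rw [LinearMap.ker_eq_bot]; exact hfinj)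
  -- the functional on `A`
  let lamA : A.carrier →ₗ[k] k := (β.flip 1).comp (g.restrictScalars k)
  have hlamA : ∀ a, lamA a = β (g a) 1 := fun a => rfl
  have hlamA0 : ∀ a, lamA (proj A.gr 0 a) = lamA a := by
    intro a
    rw [hlamA, hlamA, ← proj_map_of_isGrHom A.gr 𝒟 hg a 0]
    have := pair_eq_proj_left 𝒜 𝒟 β hD (SetLike.GradedOne.one_mem (A := 𝒜)) (g a)
    rw [neg_zero] at this
    exact this.symm
  let lam : B.carrier →ₗ[k] k := (lamA.comp φ).comp (projK 𝒜 B.gr h 0)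
  have hlam : ∀ b, lam b = lamA (φ (proj B.gr 0 b)) := fun b => rfl
  have hlamf : ∀ a, lam (f a) = lamA a := by
    intro a
    rw [hlam, proj_map_of_isGrHom A.gr B.gr hf a 0]
    have : φ (f (proj A.gr 0 a)) = proj A.gr 0 a := LinearMap.congr_fun hφ _
    rw [this, hlamA0]
  -- pointwise construction on homogeneous elements
  have keyH : ∀ (n : ℤ) (b : B.carrier), b ∈ B.gr n → ∃ d ∈ 𝒟 n, ∀ r : R, β d r = lam (r • b) := by
    intro n b hb
    obtain ⟨d, hd, hdr⟩ := hD.exists_eq n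
      (lam.comp ((LinearMap.toSpanSingleton R B.carrier b).restrictScalars k))
    refine ⟨d, hd, fun r => ?_⟩
    rw [pair_eq_proj_right 𝒜 𝒟 β hD hd r, hdr _ (proj_mem 𝒜 (-n) r)]
    change lam (proj 𝒜 (-n) r • b) = _
    have h1 : proj B.gr 0 (r • b) = proj 𝒜 (-n) r • b := by
      rw [proj_smul_of_mem_right' 𝒜 B.gr hb r 0, zero_sub]; rfl
    have h2 : proj B.gr 0 (proj 𝒜 (-n) r • b) = proj 𝒜 (-n) r • b :=
      proj_of_mem_same B.gr (by
        have := smul_mem_add 𝒜 B.gr (proj_mem 𝒜 (-n) r) hb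
        rwa [neg_add_cancel] at this)
    rw [hlam, hlam, h1, h2]
  have key : ∀ b : B.carrier, ∃ d : D, ∀ r : R, β d r = lam (r • b) := by
    intro b
    induction b using DirectSum.Decomposition.inductionOn B.gr with
    | zero => exact ⟨0, fun r => by simp⟩
    | @homogeneous n b =>
      obtain ⟨d, _, hd⟩ := keyH n b b.2
      exact ⟨d, hd⟩
    | add b b' hb hb' =>
      obtain ⟨d, hd⟩ := hb
      obtain ⟨d', hd'⟩ := hb'
      exact ⟨d + d', fun r => by rw [map_add, LinearMap.add_apply, hd, hd', smul_add, map_add]⟩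
  choose h0 hh0 using key
  have huniq : ∀ (b : B.carrier) (d : D), (∀ r : R, β d r = lam (r • b)) → d = h0 b := by
    intro b d hd
    rw [← sub_eq_zero]
    apply sepD 𝒜 𝒟 β hD
    intro r
    rw [map_sub, LinearMap.sub_apply, hd, hh0, sub_self]
  let hmap : B.carrier →ₗ[R] D :=
    { toFun := h0
      map_add' := fun b b' => by
        symm
        apply huniq
        intro r
        rw [map_add, LinearMap.add_apply, hh0, hh0, smul_add, map_add]
      map_smul' := fun s b => by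
        symm
        apply huniq
        intro r
        rw [RingHom.id_apply, hD.map_smul, hh0, smul_smul, smul_eq_mul, mul_comm] }
  refine ⟨hmap, ?_, ?_⟩
  · intro n b hb
    obtain ⟨d, hd, hdr⟩ := keyH n b hb
    have : d = h0 b := huniq b d hdr
    change h0 b ∈ 𝒟 n
    rw [← this]
    exact hd
  · apply LinearMap.ext
    intro a
    change h0 (f a) = g a
    symm
    apply huniq
    intro r
    rw [pair_eq_pair_one 𝒜 𝒟 β hD, ← map_smul, ← map_smul, hlamf, hlamA]

end Inj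

section Ess

include hD in
lemma eq_zero_of_pair_one (h : IsConn k 𝒜) {d : D} (hd : d ∈ 𝒟 0) (h1 : β d 1 = 0) : d = 0 := by
  apply hD.eq_zero 0 d hd
  intro x hx
  rw [neg_zero] at hx
  obtain ⟨c, rfl⟩ := h.zero x hx
  rw [Algebra.algebraMap_eq_smul_one, map_smul, h1, smul_zero]

include hD in
/-- every nonzero homogeneous submodule of `R^*` contains the socle `D_0 = k ε` -/
lemma essential_selfDual (h : IsConn k 𝒜) {ε : D} (hε : ε ∈ 𝒟 0) (hε0 : ε ≠ 0)
    (P : Submodule R D) (hP : P.IsHomogeneous 𝒟) (hne : P ≠ ⊥) :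
    ∃ c : k, c ≠ 0 ∧ c • ε ∈ P := by
  obtain ⟨n, p, hpP, hpn, hp0⟩ := exists_homog_mem_ne_zero 𝒟 hP hne
  obtain ⟨r, hr, hβr⟩ : ∃ r ∈ 𝒜 (-n), β p r ≠ 0 := by
    by_contra hcon
    apply hp0
    apply hD.eq_zero n p hpn
    intro x hx
    by_contra hx0
    exact hcon ⟨x, hx, hx0⟩
  have hrp : r • p ∈ 𝒟 0 := by
    have := smul_mem_add 𝒜 𝒟 hr hpn
    rwa [neg_add_cancel] at this
  have hβ : β (r • p) 1 = β p r := (pair_eq_pair_one 𝒜 𝒟 β hD p r).symm
  have hε1 : β ε 1 ≠ 0 := fun h0 => hε0 (eq_zero_of_pair_one 𝒜 𝒟 β hD h hε h0)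
  obtain ⟨c, hc⟩ : ∃ c : k, c = β (r • p) 1 / β ε 1 := ⟨_, rfl⟩
  have hc0 : c ≠ 0 := by rw [hc]; exact div_ne_zero (by rw [hβ]; exact hβr) hε1
  refine ⟨c, hc0, ?_⟩
  have hcε : c • ε ∈ 𝒟 0 := smul_mem_piece 𝒜 𝒟 h _ hε
  have e1 : β (c • ε) 1 = c * β ε 1 := by
    rw [LinearMap.map_smul, LinearMap.smul_apply, smul_eq_mul]
  have : r • p - c • ε = 0 := by
    apply eq_zero_of_pair_one 𝒜 𝒟 β hD h (sub_mem hrp hcε)
    rw [map_sub, LinearMap.sub_apply, e1, hc, div_mul_cancel₀ _ hε1, sub_self]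
  rw [← sub_eq_zero.mp this]
  exact Submodule.smul_mem _ _ hpP

end Ess

section Irrel

/-- the irrelevant ideal does not contain `1` -/
lemma one_notMem_irrel [Nontrivial R] (h : IsConn k 𝒜) (a : Ideal R)
    (ha : a = Ideal.span (⋃ n ∈ Set.Ioi (0 : ℤ), (𝒜 n : Set R))) : (1 : R) ∉ a := by
  intro h1
  have h0 : (⊤ : Submodule R R) ≤ Pos.geS 𝒜 𝒜 h.pos 0 := by
    intro x _ n hn
    have := proj_mem 𝒜 n x
    rw [h.pos n hn, AddSubgroup.mem_bot] at this
    exact this
  have h2 : (1 : R) • (1 : R) ∈ a • Pos.geS 𝒜 𝒜 h.pos 0 :=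
    Submodule.smul_mem_smul h1 (h0 Submodule.mem_top)
  have h3 := Pos.smul_geS_le 𝒜 𝒜 h.pos a ha 0 h2
  have h4 := h3 0 (by norm_num)
  rw [smul_eq_mul, mul_one, proj_of_mem_same 𝒜 (SetLike.GradedOne.one_mem (A := 𝒜))] at h4
  exact one_ne_zero h4

end Irrel

end Groth.Agent.Helper9.GDualLib
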