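import Mathlib
import Groth.Prelude.Def_GrLC
import Groth.Prelude.Def_GrSeg
import Groth.Agent.Lib.Helper9.GDual.Basic
import Groth.Agent.Lib.Helper9.GDual.SelfDual

/-!
# `R^*` is a *cogenerator: homogeneous functionals give graded maps to shifts of `R^*`
-/

set_option autoImplicit false
set_option linter.unusedSectionVars false
universe u
open DirectSum

namespace Groth.Agent.Helper9.GDualLib

open Groth.Agent.Helper9.GrLCLib

variable {k : Type u} [Field k] {R : Type u} [CommRing R] [Algebra k R]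
  (𝒜 : ℤ → AddSubgroup R) [GradedRing 𝒜]
  {D : Type u} [AddCommGroup D] [Module R D] [Module k D] [IsScalarTower k R D]
  (𝒟 : ℤ → AddSubgroup D) [DirectSum.Decomposition 𝒟] [SetLike.GradedSMul 𝒜 𝒟]
  (β : D →ₗ[k] R →ₗ[k] k) (hD : GrSeg.IsGDual R 𝒜 𝒟 β)
  {M : Type u} [AddCommGroup M] [Module R M] [Module k M] [IsScalarTower k R M]
  (ℳ : ℤ → AddSubgroup M) [DirectSum.Decomposition ℳ] [SetLike.GradedSMul 𝒜 ℳ]

include hD in
/-- a functional on `M` concentrated in degree `n` defines a graded map `M → R^*(-n)` -/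
theorem exists_map_of_functional (lam : M →ₗ[k] k) (n : ℤ)
    (hlam : ∀ y, lam y = lam (proj ℳ n y)) :
    ∃ φ : M →ₗ[R] D, (∀ (y : M) (r : R), β (φ y) r = lam (r • y)) ∧
      ∀ (g : ℤ) (y : M), y ∈ ℳ g → φ y ∈ 𝒟 (g - n) := by
  have keyH : ∀ (g : ℤ) (b : M), b ∈ ℳ g → ∃ d ∈ 𝒟 (g - n), ∀ r : R, β d r = lam (r • b) := by
    intro g b hb
    obtain ⟨d, hd, hdr⟩ := hD.exists_eq (g - n)
      (lam.comp ((LinearMap.toSpanSingleton R M b).restrictScalars k))
    refine ⟨d, hd, fun r => ?_⟩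
    rw [pair_eq_proj_right 𝒜 𝒟 β hD hd r, hdr _ (proj_mem 𝒜 (-(g - n)) r)]
    change lam (proj 𝒜 (-(g - n)) r • b) = _
    have h1 : proj ℳ n (r • b) = proj 𝒜 (-(g - n)) r • b := by
      rw [proj_smul_of_mem_right' 𝒜 ℳ hb r n, neg_sub]; rfl
    rw [hlam (r • b), h1]
  have key : ∀ b : M, ∃ d : D, ∀ r : R, β d r = lam (r • b) := by
    intro b
    induction b using DirectSum.Decomposition.inductionOn ℳ with
    | zero => exact ⟨0, fun r => by simp⟩
    | @homogeneous g b =>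
      obtain ⟨d, _, hd⟩ := keyH g b b.2
      exact ⟨d, hd⟩
    | add b b' hb hb' =>
      obtain ⟨d, hd⟩ := hb
      obtain ⟨d', hd'⟩ := hb'
      exact ⟨d + d', fun r => by rw [map_add, LinearMap.add_apply, hd, hd', smul_add, map_add]⟩
  choose h0 hh0 using key
  have huniq : ∀ (b : M) (d : D), (∀ r : R, β d r = lam (r • b)) → d = h0 b := by
    intro b d hd
    rw [← sub_eq_zero]
    apply sepD 𝒜 𝒟 β hD
    intro r
    rw [map_sub, LinearMap.sub_apply, hd, hh0, sub_self]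
  let hmap : M →ₗ[R] D :=
    { toFun := h0
      map_add' := fun b b' => by
        symm
        apply huniq
        intro r
        rw [map_add, LinearMap.add_apply, hh0, hh0, smul_add, map_add]
      map_smul' := fun s b => by
        symm
        apply huniq
        intro r
        rw [RingHom.id_apply, hD.map_smul, hh0, smul_smul, smul_eq_mul, mul_comm] }
  refine ⟨hmap, hh0, ?_⟩
  intro g b hb
  obtain ⟨d, hd, hdr⟩ := keyH g b hb
  have : d = h0 b := huniq b d hdr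
  change h0 b ∈ 𝒟 (g - n)
  rw [← this]
  exact hd

include hD in
/-- **`R^*` is a *cogenerator** -/
theorem exists_map_ne_zero (h : IsConn k 𝒜) {x : M} (hx : x ≠ 0) :
    ∃ (n : ℤ) (φ : M →ₗ[R] D), φ x ≠ 0 ∧ ∀ (g : ℤ) (y : M), y ∈ ℳ g → φ y ∈ 𝒟 (g - n) := by
  obtain ⟨n, hn⟩ : ∃ n, proj ℳ n x ≠ 0 := by
    by_contra hcon
    apply hx
    apply Pos.eq_zero_of_proj_eq_zero ℳ
    intro n
    by_contra hne
    exact hcon ⟨n, hne⟩
  obtain ⟨μ, hμ⟩ : ∃ μ : Module.Dual k M, μ (proj ℳ n x) ≠ 0 := by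
    by_contra hcon
    apply hn
    apply (Module.forall_dual_apply_eq_zero_iff k _).mp
    intro φ
    by_contra hφ
    exact hcon ⟨φ, hφ⟩
  obtain ⟨φ, hφ, hφgr⟩ := exists_map_of_functional 𝒜 𝒟 β hD ℳ (μ.comp (projK 𝒜 ℳ h n)) n
    (fun y => by
      change μ (proj ℳ n y) = μ (proj ℳ n (proj ℳ n y))
      rw [proj_of_mem_same ℳ (proj_mem ℳ n y)])
  refine ⟨n, φ, ?_, hφgr⟩
  intro h0
  have := hφ x 1
  rw [h0, map_zero, LinearMap.zero_apply, one_smul] at this
  exact hμ this.symm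

end Groth.Agent.Helper9.GDualLib
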