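import Mathlib

/-!
# Melkersson's lemma: a torsion module with Artinian socle is Artinian
-/

set_option autoImplicit false
universe u

namespace Groth.Agent.Helper9.Melk

variable {R : Type u} [CommRing R]

section Stab

variable {K : Type u} [AddCommGroup K] [Module R K] [IsArtinian R K]

/-- simultaneous stabilisation of finitely many descending chains -/
lemma exists_stab (A : ℕ → ℕ → Submodule R K) (hA : ∀ j, Antitone (fun i => A i j)) (j₀ : ℕ) :
    ∃ i₁, ∀ i, i₁ ≤ i → ∀ j, j < j₀ → A i j = A i₁ j := by
  induction j₀ with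
  | zero => exact ⟨0, fun _ _ j hj => absurd hj (Nat.not_lt_zero j)⟩
  | succ j₀ ih =>
    obtain ⟨i₁, hi₁⟩ := ih
    obtain ⟨n, hn⟩ := IsArtinian.monotone_stabilizes
      (⟨fun i => OrderDual.toDual (A i j₀), fun i i' h => hA j₀ h⟩ : ℕ →o (Submodule R K)ᵒᵈ)
    have hn' : ∀ m, n ≤ m → A n j₀ = A m j₀ := fun m hm => congrArg OrderDual.ofDual (hn m hm)
    refine ⟨max i₁ n, fun i hi j hj => ?_⟩
    rcases Nat.lt_succ_iff_lt_or_eq.mp hj with hj' | rfl
    · rw [hi₁ i (le_trans (le_max_left _ _) hi) j hj', hi₁ (max i₁ n) (le_max_left _ _) j hj']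
    · rw [← hn' i (le_trans (le_max_right _ _) hi), ← hn' (max i₁ n) (le_max_right _ _)]

end Stab

section One

variable {E : Type u} [AddCommGroup E] [Module R E] (x : R)

/-- the submodule `x^j (N ∩ ker x^{j+1})` of `ker x` -/
def layer (N : Submodule R E) (j : ℕ) : Submodule R E where
  carrier := {e | ∃ n ∈ N, x ^ (j + 1) • n = 0 ∧ x ^ j • n = e}
  zero_mem' := ⟨0, zero_mem _, smul_zero _, smul_zero _⟩
  add_mem' := by
    rintro _ _ ⟨n, hn, h1, rfl⟩ ⟨n', hn', h1', rfl⟩
    exact ⟨n + n', add_mem hn hn', by rw [smul_add, h1, h1', add_zero], by rw [smul_add]⟩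
  smul_mem' := by
    rintro c _ ⟨n, hn, h1, rfl⟩
    exact ⟨c • n, Submodule.smul_mem _ _ hn, by rw [smul_comm, h1, smul_zero], by rw [smul_comm]⟩

lemma layer_le_ker (N : Submodule R E) (j : ℕ) : layer x N j ≤ Submodule.torsionBy R E x := by
  rintro _ ⟨n, _, h1, rfl⟩
  rw [Submodule.mem_torsionBy_iff, smul_smul, ← pow_succ']
  exact h1

lemma layer_mono {N N' : Submodule R E} (h : N ≤ N') (j : ℕ) : layer x N j ≤ layer x N' j := by
  rintro _ ⟨n, hn, h1, rfl⟩
  exact ⟨n, h hn, h1, rfl⟩

lemma layer_succ_le (N : Submodule R E) (j : ℕ) : layer x N (j + 1) ≤ layer x N j := by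
  rintro _ ⟨n, hn, h1, rfl⟩
  refine ⟨x • n, Submodule.smul_mem _ _ hn, ?_, ?_⟩
  · rw [smul_smul, ← pow_succ]; exact h1
  · rw [smul_smul, ← pow_succ]

lemma layer_anti (N : Submodule R E) {j j' : ℕ} (h : j ≤ j') : layer x N j' ≤ layer x N j := by
  induction h with
  | refl => exact le_rfl
  | step _ ih => exact le_trans (layer_succ_le x N _) ih

/-- comparison of two nested submodules with the same layers -/
lemma le_of_layer_eq {N N' : Submodule R E} (hle : N' ≤ N)
    (hlay : ∀ j, layer x N j ≤ layer x N' j) :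
    ∀ (j : ℕ) (n : E), n ∈ N → x ^ j • n = 0 → n ∈ N' := by
  intro j
  induction j with
  | zero =>
    intro n _ h0
    rw [pow_zero, one_smul] at h0
    rw [h0]; exact zero_mem _
  | succ j ih =>
    intro n hn h0
    obtain ⟨n', hn', h1, h2⟩ := hlay j ⟨n, hn, h0, rfl⟩
    have h3 : n - n' ∈ N' := ih (n - n') (sub_mem hn (hle hn')) (by rw [smul_sub, h2, sub_self])
    have : n = (n - n') + n' := by abel
    rw [this]
    exact add_mem h3 hn'

/-- **Melkersson's lemma** for one element -/
theorem isArtinian_of_torsionBy (htors : ∀ e : E, ∃ j : ℕ, x ^ j • e = 0)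
    (hK : IsArtinian R (Submodule.torsionBy R E x)) : IsArtinian R E := by
  rw [← monotone_stabilizes_iff_artinian]
  intro N
  -- the layers as submodules of `ker x`
  let A : ℕ → ℕ → Submodule R (Submodule.torsionBy R E x) := fun i j =>
    (layer x (OrderDual.ofDual (N i)) j).comap (Submodule.torsionBy R E x).subtype
  have hAi : ∀ j, Antitone (fun i => A i j) := fun j i i' h =>
    Submodule.comap_mono (layer_mono x (N.monotone h) j)
  have hAj : ∀ i, Antitone (fun j => A i j) := fun i j j' h =>
    Submodule.comap_mono (layer_anti x _ h)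
  have hback : ∀ i i' j, A i j ≤ A i' j →
      layer x (OrderDual.ofDual (N i)) j ≤ layer x (OrderDual.ofDual (N i')) j := by
    intro i i' j h e he
    have hek : e ∈ Submodule.torsionBy R E x := layer_le_ker x _ j he
    exact h (show (⟨e, hek⟩ : Submodule.torsionBy R E x) ∈ A i j from he)
  obtain ⟨_, ⟨⟨i₀, j₀⟩, rfl⟩, hmin⟩ := IsArtinian.set_has_minimal
    (Set.range (fun p : ℕ × ℕ => A p.1 p.2)) ⟨_, ⟨(0, 0), rfl⟩⟩
  have hbig : ∀ i j, i₀ ≤ i → j₀ ≤ j → A i j = A i₀ j₀ := by
    intro i j hi hj
    have hle : A i j ≤ A i₀ j₀ := le_trans (hAi j hi) (hAj i₀ hj)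
    by_contra hne
    exact hmin (A i j) ⟨(i, j), rfl⟩ (lt_of_le_of_ne hle hne)
  obtain ⟨i₁, hi₁⟩ := exists_stab A hAi j₀
  refine ⟨max i₀ i₁, fun m hm => ?_⟩
  apply le_antisymm
  · -- `N m ≤ N (max i₀ i₁)` in the order dual means the reverse inclusion
    change OrderDual.ofDual (N m) ≤ OrderDual.ofDual (N (max i₀ i₁))
    exact N.monotone hm
  · change OrderDual.ofDual (N (max i₀ i₁)) ≤ OrderDual.ofDual (N m)
    intro n hn
    obtain ⟨j, hj⟩ := htors n
    refine le_of_layer_eq x (N.monotone hm) (fun j => ?_) j n hn hj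
    apply hback
    by_cases hjj : j < j₀
    · rw [hi₁ (max i₀ i₁) (le_max_right _ _) j hjj,
        hi₁ m (le_trans (le_max_right _ _) hm) j hjj]
    · rw [hbig (max i₀ i₁) j (le_max_left _ _) (not_lt.mp hjj),
        hbig m j (le_trans (le_max_left _ _) hm) (not_lt.mp hjj)]

end One

section Many

/-- **Melkersson's lemma** for finitely many elements -/
theorem isArtinian_of_torsionBySet_finset (S : Finset R) :
    ∀ (E : Type u) [AddCommGroup E] [Module R E],
      (∀ x ∈ S, ∀ e : E, ∃ j : ℕ, x ^ j • e = 0) →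
      IsArtinian R (Submodule.torsionBySet R E (S : Set R)) → IsArtinian R E := by
  classical
  induction S using Finset.induction_on with
  | empty =>
    intro E _ _ _ hK
    have htop : Submodule.torsionBySet R E ((∅ : Finset R) : Set R) = ⊤ := by
      rw [eq_top_iff]
      intro e _
      rw [Submodule.mem_torsionBySet_iff]
      rintro ⟨a, ha⟩
      simp at ha
    rw [htop] at hK
    exact isArtinian_of_linearEquiv (Submodule.topEquiv : (⊤ : Submodule R E) ≃ₗ[R] E)
  | insert x S hxS ih =>
    intro E _ _ htors hK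
    apply isArtinian_of_torsionBy x (htors x (Finset.mem_insert_self x S))
    apply ih (Submodule.torsionBy R E x)
    · intro y hy e
      obtain ⟨j, hj⟩ := htors y (Finset.mem_insert_of_mem hy) (e : E)
      exact ⟨j, Subtype.ext hj⟩
    · -- the socle of `ker x` for `S` embeds in the socle of `E` for `insert x S`
      let φ : Submodule.torsionBySet R (Submodule.torsionBy R E x) (S : Set R) →ₗ[R]
          Submodule.torsionBySet R E ((insert x S : Finset R) : Set R) :=
        LinearMap.codRestrict _
          ((Submodule.torsionBy R E x).subtype.comp (Submodule.subtype _))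
          (by
            intro e
            rw [Submodule.mem_torsionBySet_iff]
            rintro ⟨a, ha⟩
            rw [Finset.coe_insert, Set.mem_insert_iff] at ha
            rcases ha with rfl | ha
            · exact (Submodule.mem_torsionBy_iff _ _).mp (e : Submodule.torsionBy R E a).2
            · have := (Submodule.mem_torsionBySet_iff _ _).mp e.2 ⟨a, ha⟩
              exact congrArg Subtype.val this)
      have hφ : Function.Injective φ := by
        intro e e' h
        apply Subtype.ext
        apply Subtype.ext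
        exact congrArg (fun z : Submodule.torsionBySet R E ((insert x S : Finset R) : Set R) =>
          (z : E)) h
      exact isArtinian_of_injective φ hφ

/-- **Melkersson's lemma**: a module which is torsion for a finitely generated ideal and whose socle
for that ideal is Artinian is Artinian -/
theorem isArtinian_of_torsionBySet_ideal (a : Ideal R) (ha : a.FG)
    (E : Type u) [AddCommGroup E] [Module R E]
    (htors : ∀ e : E, ∃ j : ℕ, ∀ r ∈ a ^ j, r • e = 0)
    (hK : IsArtinian R (Submodule.torsionBySet R E (a : Set R))) : IsArtinian R E := by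
  obtain ⟨S, hS⟩ := ha
  apply isArtinian_of_torsionBySet_finset S E
  · intro x hx e
    obtain ⟨j, hj⟩ := htors e
    refine ⟨j, hj _ (Ideal.pow_mem_pow ?_ j)⟩
    rw [← hS]
    exact Ideal.subset_span hx
  · have : Submodule.torsionBySet R E (S : Set R) = Submodule.torsionBySet R E (a : Set R) := by
      rw [Submodule.torsionBySet_eq_torsionBySet_span, ← hS]
    rw [this]
    exact hK

end Many

end Groth.Agent.Helper9.Melk
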