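import Mathlib
import Groth.Prelude.Def_GrLC
import Groth.Prelude.Def_GrSeg
import Groth.Agent.Lib.Helper9.GDual.Basic
import Groth.Agent.Lib.Helper9.GrLC.Ess

/-!
# Graded `k`-duals: torsion, socle, and the irrelevant ideal
-/

set_option autoImplicit false
set_option linter.unusedSectionVars false
universe u
open DirectSum

namespace Groth.Agent.Helper9.GDualLib

open Groth.Agent.Helper9.GrLCLib

variable {k : Type u} [Field k] {R : Type u} [CommRing R] [Algebra k R]
  (𝒜 : ℤ → AddSubgroup R) [GradedRing 𝒜]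

section Irr

variable {M : Type u} [AddCommGroup M] [Module R M]
  (ℳ : ℤ → AddSubgroup M) [DirectSum.Decomposition ℳ] [SetLike.GradedSMul 𝒜 ℳ]
  (a : Ideal R) (ha : a = Ideal.span (⋃ n ∈ Set.Ioi (0 : ℤ), (𝒜 n : Set R)))

include ha in
/-- `R_+ M` is a homogeneous submodule -/
lemma smul_top_isHomogeneous : (a • (⊤ : Submodule R M)).IsHomogeneous ℳ := by
  have key : ∀ r ∈ a, ∀ (x : M) (n : ℤ), proj ℳ n (r • x) ∈ a • (⊤ : Submodule R M) := by
    intro r hr
    rw [ha] at hr
    induction hr using Submodule.span_induction with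
    | mem s hs =>
      simp only [Set.mem_iUnion, Set.mem_Ioi, SetLike.mem_coe] at hs
      obtain ⟨j, hj, hs⟩ := hs
      intro x n
      rw [proj_smul_of_mem' 𝒜 ℳ hs x n]
      apply Submodule.smul_mem_smul _ Submodule.mem_top
      rw [ha]
      apply Ideal.subset_span
      simp only [Set.mem_iUnion, Set.mem_Ioi, SetLike.mem_coe]
      exact ⟨j, hj, hs⟩
    | zero => intro x n; rw [zero_smul, map_zero]; exact zero_mem _
    | add s t _ _ hs ht => intro x n; rw [add_smul, map_add]; exact add_mem (hs x n) (ht x n)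
    | smul c s _ hs =>
      intro x n
      rw [smul_eq_mul, mul_comm, mul_smul]
      exact hs (c • x) n
  intro n x hx
  change proj ℳ n x ∈ _
  refine Submodule.smul_induction_on hx (fun r hr y _ => key r hr y n) (fun y z hy hz => ?_)
  rw [map_add]; exact add_mem hy hz

include ha in
/-- every element of `R` is a scalar modulo the irrelevant ideal -/
lemma exists_sub_algebraMap_mem (h : IsConn k 𝒜) (r : R) :
    ∃ c : k, r - algebraMap k R c ∈ a := by
  induction r using DirectSum.Decomposition.inductionOn 𝒜 with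
  | zero => exact ⟨0, by simp⟩
  | @homogeneous n s =>
    rcases lt_trichotomy n 0 with hn | hn | hn
    · have : (s : R) ∈ (⊥ : AddSubgroup R) := by rw [← h.pos n hn]; exact s.2
      rw [AddSubgroup.mem_bot] at this
      exact ⟨0, by rw [this]; simp⟩
    · subst hn
      obtain ⟨c, hc⟩ := h.zero _ s.2
      exact ⟨c, by rw [hc, sub_self]; exact zero_mem _⟩
    · refine ⟨0, ?_⟩
      rw [map_zero, sub_zero, ha]
      apply Ideal.subset_span
      simp only [Set.mem_iUnion, Set.mem_Ioi, SetLike.mem_coe]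
      exact ⟨n, hn, s.2⟩
  | add r s hr hs =>
    obtain ⟨c, hc⟩ := hr
    obtain ⟨c', hc'⟩ := hs
    refine ⟨c + c', ?_⟩
    have : r + s - algebraMap k R (c + c') = (r - algebraMap k R c) + (s - algebraMap k R c') := by
      rw [map_add]; ring
    rw [this]
    exact add_mem hc hc'

end Irr

section Tors

variable {D : Type u} [AddCommGroup D] [Module R D] (a : Ideal R)

/-- in a module whose elements are killed by powers of `a`, every nonzero submodule meets the socle -/
lemma inf_soc_ne_bot (htors : ∀ d : D, ∃ j : ℕ, ∀ r ∈ a ^ j, r • d = 0)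
    (P : Submodule R D) (hne : P ≠ ⊥) :
    P ⊓ Submodule.torsionBySet R D (a : Set R) ≠ ⊥ := by
  obtain ⟨p, hpP, hp0⟩ := Submodule.exists_mem_ne_zero_of_ne_bot hne
  classical
  have hex := htors p
  have hj0 : Nat.find hex ≠ 0 := by
    intro h0
    have := Nat.find_spec hex
    rw [h0, pow_zero] at this
    apply hp0
    have h1 := this 1 (by simp)
    rwa [one_smul] at h1
  obtain ⟨j, hj⟩ := Nat.exists_eq_succ_of_ne_zero hj0
  have hnot : ¬ ∀ r ∈ a ^ j, r • p = 0 := Nat.find_min hex (by omega)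
  have hex2 : ∃ r ∈ a ^ j, r • p ≠ 0 := by
    by_contra hcon
    apply hnot
    intro r hr
    by_contra hr0
    exact hcon ⟨r, hr, hr0⟩
  obtain ⟨r, hr, hrp⟩ := hex2
  intro hbot
  have hmem : r • p ∈ P ⊓ Submodule.torsionBySet R D (a : Set R) := by
    refine ⟨Submodule.smul_mem _ _ hpP, ?_⟩
    apply (Submodule.mem_torsionBySet_iff _ _).mpr
    rintro ⟨s, hs⟩
    change s • r • p = 0
    rw [smul_smul]
    apply Nat.find_spec hex
    rw [hj, pow_succ']
    exact Ideal.mul_mem_mul hs hr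
  rw [hbot, Submodule.mem_bot] at hmem
  exact hrp hmem

end Tors

section Dual

variable {M : Type u} [AddCommGroup M] [Module R M] [Module k M] [IsScalarTower k R M]
  (ℳ : ℤ → AddSubgroup M) [DirectSum.Decomposition ℳ] [SetLike.GradedSMul 𝒜 ℳ]
  {D : Type u} [AddCommGroup D] [Module R D] [Module k D] [IsScalarTower k R D]
  (𝒟 : ℤ → AddSubgroup D) [DirectSum.Decomposition 𝒟] [SetLike.GradedSMul 𝒜 𝒟]
  (β : D →ₗ[k] M →ₗ[k] k) (hD : GrSeg.IsGDual R ℳ 𝒟 β)
  (a : Ideal R) (ha : a = Ideal.span (⋃ n ∈ Set.Ioi (0 : ℤ), (𝒜 n : Set R)))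

include hD in
/-- the socle of the dual is the annihilator of `R_+ M` -/
lemma mem_soc_iff (d : D) :
    d ∈ Submodule.torsionBySet R D (a : Set R) ↔ ∀ x ∈ a • (⊤ : Submodule R M), β d x = 0 := by
  rw [Submodule.mem_torsionBySet_iff]
  constructor
  · intro h x hx
    refine Submodule.smul_induction_on hx (fun r hr y _ => ?_) (fun y z hy hz => ?_)
    · rw [← hD.map_smul]
      have := h ⟨r, hr⟩
      change r • d = 0 at this
      rw [this, map_zero, LinearMap.zero_apply]
    · rw [map_add, hy, hz, add_zero]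
  · rintro h ⟨r, hr⟩
    change r • d = 0
    apply sepD ℳ 𝒟 β hD
    intro x
    rw [hD.map_smul]
    exact h _ (Submodule.smul_mem_smul hr Submodule.mem_top)

include hD ha in
/-- the socle of the dual is a homogeneous submodule -/
lemma soc_isHomogeneous : (Submodule.torsionBySet R D (a : Set R)).IsHomogeneous 𝒟 := by
  intro n d hd
  rw [mem_soc_iff ℳ 𝒟 β hD a] at hd ⊢
  intro x hx
  change β (proj 𝒟 n d) x = 0
  rw [pair_eq_proj_right ℳ 𝒟 β hD (proj_mem 𝒟 n d) x]
  have h1 := pair_eq_proj_left ℳ 𝒟 β hD (proj_mem ℳ (-n) x) d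
  rw [neg_neg] at h1
  rw [← h1]
  exact hd _ (smul_top_isHomogeneous 𝒜 ℳ a ha (-n) hx)

include hD ha in
/-- the dual of a module bounded below is torsion for the irrelevant ideal -/
lemma isTorsion_dual (h : IsConn k 𝒜) (k₀ : ℤ) (hbdd : ∀ n : ℤ, n < k₀ → ℳ n = ⊥) (d : D) :
    ∃ j : ℕ, ∀ r ∈ a ^ j, r • d = 0 := by
  have hDtop : ∀ m : ℤ, -k₀ < m → 𝒟 m = ⊥ := by
    intro m hm
    rw [eq_bot_iff]
    intro e he
    rw [AddSubgroup.mem_bot]
    apply hD.eq_zero m e he
    intro x hx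
    rw [hbdd (-m) (by omega), AddSubgroup.mem_bot] at hx
    rw [hx, map_zero]
  obtain ⟨k₁, hk₁⟩ := Pos.exists_mem_geS 𝒜 𝒟 h.pos d
  refine ⟨(-k₀ + 1 - k₁).toNat, fun r hr => ?_⟩
  have h1 : r • d ∈ a ^ (-k₀ + 1 - k₁).toNat • Pos.geS 𝒜 𝒟 h.pos k₁ :=
    Submodule.smul_mem_smul hr hk₁
  have h2 := Pos.pow_smul_geS_le 𝒜 𝒟 h.pos a ha k₁ _ h1
  have h3 : Pos.geS 𝒜 𝒟 h.pos (k₁ + ((-k₀ + 1 - k₁).toNat : ℤ)) = ⊥ :=
    Pos.geS_eq_bot 𝒜 𝒟 h.pos _ (fun n hn => hDtop n (by omega))
  rw [h3] at h2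
  exact (Submodule.mem_bot R).mp h2

/-- a finitely generated graded module is bounded below -/
lemma exists_bdd_of_finite (h : IsConn k 𝒜) [Module.Finite R M] :
    ∃ k₀ : ℤ, ∀ n : ℤ, n < k₀ → ℳ n = ⊥ := by
  obtain ⟨k₀, hk₀⟩ := Pos.exists_top_le_geS 𝒜 ℳ h.pos
  refine ⟨k₀, fun n hn => ?_⟩
  rw [eq_bot_iff]
  intro x hx
  rw [AddSubgroup.mem_bot]
  have := hk₀ (Submodule.mem_top : x ∈ ⊤) n hn
  rwa [proj_of_mem_same ℳ hx] at this

end Dual

end Groth.Agent.Helper9.GDualLib
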