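import Mathlib
import Groth.Prelude.Def_GrLC
import Groth.Prelude.Def_GrSeg
import Groth.Agent.Lib.Helper9.GDual.Basic
import Groth.Agent.Lib.Helper9.GDual.Socle
import Groth.Agent.Lib.Helper9.GDual.Melk

/-!
# Graded `k`-duals: finitely generated ↔ Artinian
-/

set_option autoImplicit false
set_option linter.unusedSectionVars false
universe u
open DirectSum

namespace Groth.Agent.Helper9.GDualLib

open Groth.Agent.Helper9.GrLCLib

variable {k : Type u} [Field k] {R : Type u} [CommRing R] [Algebra k R]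
  (𝒜 : ℤ → AddSubgroup R) [GradedRing 𝒜]
  {M : Type u} [AddCommGroup M] [Module R M] [Module k M] [IsScalarTower k R M]
  (ℳ : ℤ → AddSubgroup M) [DirectSum.Decomposition ℳ] [SetLike.GradedSMul 𝒜 ℳ]
  {D : Type u} [AddCommGroup D] [Module R D] [Module k D] [IsScalarTower k R D]
  (𝒟 : ℤ → AddSubgroup D) [DirectSum.Decomposition 𝒟] [SetLike.GradedSMul 𝒜 𝒟]
  (β : D →ₗ[k] M →ₗ[k] k) (hD : GrSeg.IsGDual R ℳ 𝒟 β)
  (a : Ideal R) (ha : a = Ideal.span (⋃ n ∈ Set.Ioi (0 : ℤ), (𝒜 n : Set R)))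

section FgToArt

include hD ha in
/-- the socle of the dual of a finitely generated module is finite-dimensional -/
lemma finite_soc (h : IsConn k 𝒜) [Module.Finite R M] :
    Module.Finite k (Submodule.torsionBySet R D (a : Set R)) := by
  obtain ⟨S, hS⟩ := (Module.Finite.fg_top : (⊤ : Submodule R M).FG)
  let Φ : Submodule.torsionBySet R D (a : Set R) →ₗ[k] (S → k) :=
    LinearMap.pi (fun s => (β.flip (s : M)).comp
      ((Submodule.torsionBySet R D (a : Set R)).subtype.restrictScalars k))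
  have hΦ : Function.Injective Φ := by
    rw [injective_iff_map_eq_zero]
    intro d hd
    apply Subtype.ext
    apply sepD ℳ 𝒟 β hD
    intro x
    have hx : x ∈ Submodule.span R (S : Set M) := by rw [hS]; exact Submodule.mem_top
    have hsoc := (mem_soc_iff ℳ 𝒟 β hD a (d : D)).mp d.2
    induction hx using Submodule.span_induction with
    | mem s hs => exact congrFun hd ⟨s, hs⟩
    | zero => simp
    | add y z _ _ hy hz => rw [map_add, hy, hz, add_zero]
    | smul r y _ hy =>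
      obtain ⟨c, hc⟩ := exists_sub_algebraMap_mem 𝒜 a ha h r
      have h1 : r • y = c • y + (r - algebraMap k R c) • y := by
        rw [sub_smul, algebraMap_smul]; abel
      rw [h1, map_add, map_smul, hy, smul_zero, zero_add]
      exact hsoc _ (Submodule.smul_mem_smul hc Submodule.mem_top)
  exact Module.Finite.of_injective Φ hΦ

include hD ha in
/-- the socle of the dual of a finitely generated module is an Artinian `R`-module -/
lemma isArtinian_soc (h : IsConn k 𝒜) [Module.Finite R M] :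
    IsArtinian R (Submodule.torsionBySet R D (a : Set R)) := by
  have := finite_soc 𝒜 ℳ 𝒟 β hD a ha h
  have hwf : WellFoundedLT (Submodule k (Submodule.torsionBySet R D (a : Set R))) :=
    (inferInstance : IsArtinian k (Submodule.torsionBySet R D (a : Set R)))
  exact (Submodule.restrictScalarsEmbedding k R
    (Submodule.torsionBySet R D (a : Set R))).strictMono.wellFoundedLT

include hD ha in
/-- **the graded dual of a finitely generated module is Artinian** -/
theorem isArtinian_dual (h : IsConn k 𝒜) [IsNoetherianRing R] [Module.Finite R M] :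
    IsArtinian R D := by
  obtain ⟨k₀, hk₀⟩ := exists_bdd_of_finite 𝒜 ℳ h
  exact Melk.isArtinian_of_torsionBySet_ideal a (IsNoetherian.noetherian a) D
    (isTorsion_dual 𝒜 ℳ 𝒟 β hD a ha h k₀ hk₀) (isArtinian_soc 𝒜 ℳ 𝒟 β hD a ha h)

end FgToArt

section ArtToFg

/-- the annihilator in `M` of a submodule of the dual -/
def perpM (N : Submodule R D) : Submodule R M where
  carrier := {x | ∀ w ∈ N, β w x = 0}
  zero_mem' := fun w _ => by simp
  add_mem' := fun {x y} hx hy w hw => by rw [map_add, hx w hw, hy w hw, add_zero]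
  smul_mem' := fun r x hx w hw => by
    change β w (r • x) = 0
    rw [← hD.map_smul]
    exact hx _ (N.smul_mem r hw)

lemma mem_perpM (N : Submodule R D) (x : M) :
    x ∈ perpM ℳ 𝒟 β hD N ↔ ∀ w ∈ N, β w x = 0 := Iff.rfl

lemma perpM_anti {N N' : Submodule R D} (hle : N ≤ N') :
    perpM ℳ 𝒟 β hD N' ≤ perpM ℳ 𝒟 β hD N := fun _ hx w hw => hx w (hle hw)

lemma sup_isHomogeneous' {P Q : Submodule R D} (hP : P.IsHomogeneous 𝒟)
    (hQ : Q.IsHomogeneous 𝒟) : (P ⊔ Q).IsHomogeneous 𝒟 := by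
  intro n x hx
  obtain ⟨p, hp, q, hq, rfl⟩ := Submodule.mem_sup.mp hx
  rw [decompose_add, DirectSum.add_apply, AddSubgroup.coe_add]
  exact Submodule.add_mem_sup (hP n hp) (hQ n hq)

include hD in
/-- **the graded dual of an Artinian module is finitely generated** -/
theorem finite_dual_of_isArtinian (h : IsConn k 𝒜) [IsArtinian R M] : Module.Finite R D := by
  have hfd : ∀ n, Module.Finite k (pieceK 𝒜 ℳ h n) := fun n => finite_piece_of_isArtinian 𝒜 ℳ h n
  obtain ⟨_, ⟨N₀, hfg, hhom, rfl⟩, hmin⟩ := IsArtinian.set_has_minimal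
    {P : Submodule R M | ∃ N : Submodule R D, N.FG ∧ N.IsHomogeneous 𝒟 ∧ P = perpM ℳ 𝒟 β hD N}
    ⟨_, ⊥, Submodule.fg_bot, bot_isHomogeneous 𝒟, rfl⟩
  suffices htop : N₀ = ⊤ by
    exact ⟨by rw [← htop]; exact hfg⟩
  by_contra hne
  -- a homogeneous element outside `N₀`
  obtain ⟨m, d, hdm, hdN⟩ : ∃ (m : ℤ) (d : D), d ∈ 𝒟 m ∧ d ∉ N₀ := by
    by_contra hcon
    apply hne
    rw [eq_top_iff]
    intro d _
    classical
    rw [← DirectSum.sum_support_decompose 𝒟 d]
    refine Submodule.sum_mem _ (fun i _ => ?_)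
    by_contra hi
    exact hcon ⟨i, _, (decompose 𝒟 d i).2, hi⟩
  have hfg₁ : (N₀ ⊔ Submodule.span R {d}).FG := hfg.sup (Submodule.fg_span_singleton d)
  have hhom₁ : (N₀ ⊔ Submodule.span R {d}).IsHomogeneous 𝒟 :=
    sup_isHomogeneous' 𝒟 hhom (span_singleton_isHomogeneous 𝒜 𝒟 hdm)
  have hle : perpM ℳ 𝒟 β hD N₀ ≤ perpM ℳ 𝒟 β hD (N₀ ⊔ Submodule.span R {d}) := by
    by_contra hnle
    exact hmin _ ⟨_, hfg₁, hhom₁, rfl⟩ (lt_of_le_not_ge (perpM_anti ℳ 𝒟 β hD le_sup_left) hnle)
  -- a functional separating `d` from `N₀ ∩ D_m`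
  have hdW : d ∉ (N₀.restrictScalars k) ⊓ pieceK 𝒜 𝒟 h m := fun hd => hdN hd.1
  obtain ⟨φ, hφd, hφ⟩ := Submodule.exists_dual_map_eq_bot_of_notMem hdW inferInstance
  have hφ0 : ∀ w ∈ N₀, w ∈ 𝒟 m → φ w = 0 := by
    intro w hw hwm
    have : φ w ∈ Submodule.map φ ((N₀.restrictScalars k) ⊓ pieceK 𝒜 𝒟 h m) := ⟨w, ⟨hw, hwm⟩, rfl⟩
    rw [hφ] at this
    exact (Submodule.mem_bot k).mp this
  have := hfd (-m)
  obtain ⟨y, hy, hyφ⟩ := exists_repr 𝒜 ℳ 𝒟 β hD h (-m) φ
  have hyφ' : ∀ e ∈ 𝒟 m, β e y = φ e := fun e he => hyφ e (by rw [neg_neg]; exact he)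
  have hy0 : y ∈ perpM ℳ 𝒟 β hD N₀ := by
    intro w hw
    have h1 := pair_eq_proj_left ℳ 𝒟 β hD hy w
    rw [neg_neg] at h1
    rw [h1, hyφ' _ (proj_mem 𝒟 m w)]
    exact hφ0 _ (hhom m hw) (proj_mem 𝒟 m w)
  have h2 := hle hy0 d (Submodule.mem_sup_right (Submodule.mem_span_singleton_self d))
  rw [hyφ' d hdm] at h2
  exact hφd h2

end ArtToFg

end Groth.Agent.Helper9.GDualLib
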