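import Mathlib
import Groth.Prelude.Def_GrLC
import Groth.Prelude.Def_GrSeg
import Groth.Agent.Lib.Helper9.GDual.Basic

/-!
# Abstract graded duality: `(T M)^* ≅ Hom_R(M, (T R)^*)` for a right exact "functor" `T`
given by generators and relations
-/

set_option autoImplicit false
set_option linter.unusedSectionVars false
universe u
open DirectSum

namespace Groth.Agent.Helper9.GDualLib
namespace TopDual

open Groth.Agent.Helper9.GrLCLib

variable {k : Type u} [Field k] {R : Type u} [CommRing R] [Algebra k R]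
  {M : Type u} [AddCommGroup M] [Module R M] (ℳ : ℤ → AddSubgroup M) [DirectSum.Decomposition ℳ]
  {P : Type u} [AddCommGroup P] [Module R P] [Module k P] [IsScalarTower k R P]
  (pP : ℤ → AddSubgroup P) [DirectSum.Decomposition pP]
  {Q : Type u} [AddCommGroup Q] [Module R Q] [Module k Q] [IsScalarTower k R Q]
  (qQ : ℤ → AddSubgroup Q) [DirectSum.Decomposition qQ]
  {K : Type u} [AddCommGroup K] [Module R K] [Module k K] [IsScalarTower k R K]
  (𝒦 : ℤ → AddSubgroup K) [DirectSum.Decomposition 𝒦]
  (βK : K →ₗ[k] P →ₗ[k] k) (hK : GrSeg.IsGDual R pP 𝒦 βK)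
  {D : Type u} [AddCommGroup D] [Module R D] [Module k D] [IsScalarTower k R D]
  (𝒟 : ℤ → AddSubgroup D) [DirectSum.Decomposition 𝒟]
  (βD : D →ₗ[k] Q →ₗ[k] k) (hD : GrSeg.IsGDual R qQ 𝒟 βD)
  (τ : M → (P →ₗ[R] Q))
  (t_add : ∀ (x y : M) (h : P), τ (x + y) h = τ x h + τ y h)
  (t_smul : ∀ (r : R) (x : M) (h : P), τ (r • x) h = τ x (r • h))
  (t_gr : ∀ (g : ℤ) (x : M), x ∈ ℳ g → ∀ (j : ℤ) (h : P), h ∈ pP j → τ x h ∈ qQ (j + g))

section Eps

include t_add in
lemma t_zero (h : P) : τ 0 h = 0 := by
  have := t_add 0 0 h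
  rw [add_zero] at this
  exact (add_eq_left.mp this.symm)

include hK hD t_gr in
/-- existence of the value of `ε` on homogeneous elements -/
lemma exists_kappa_homog {e : ℤ} {d : D} (hd : d ∈ 𝒟 e) {g : ℤ} {x : M} (hx : x ∈ ℳ g) :
    ∃ κ ∈ 𝒦 (g + e), ∀ h : P, βK κ h = βD d (τ x h) := by
  obtain ⟨κ, hκ, hκh⟩ := hK.exists_eq (g + e) ((βD d).comp ((τ x).restrictScalars k))
  refine ⟨κ, hκ, fun h => ?_⟩
  induction h using DirectSum.Decomposition.inductionOn pP with
  | zero => simp
  | @homogeneous j h =>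
    by_cases hj : j = -(g + e)
    · subst hj
      exact hκh h h.2
    · rw [hK.vanish (g + e) κ hκ j hj h h.2]
      exact (hD.vanish e d hd (j + g) (fun h' => hj (by omega)) _ (t_gr g x hx j h h.2)).symm
  | add h h' ih ih' => rw [map_add, map_add, map_add, ih, ih']

include hK hD t_gr t_add in
lemma exists_kappa (d : D) (x : M) : ∃ κ : K, ∀ h : P, βK κ h = βD d (τ x h) := by
  induction d using DirectSum.Decomposition.inductionOn 𝒟 with
  | zero => exact ⟨0, fun h => by simp⟩
  | @homogeneous e d =>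
    induction x using DirectSum.Decomposition.inductionOn ℳ with
    | zero => exact ⟨0, fun h => by rw [t_zero τ t_add h]; simp⟩
    | @homogeneous g x =>
      obtain ⟨κ, _, hκ⟩ := exists_kappa_homog ℳ pP qQ 𝒦 βK hK 𝒟 βD hD τ t_gr d.2 x.2
      exact ⟨κ, hκ⟩
    | add x y hx hy =>
      obtain ⟨κ, hκ⟩ := hx
      obtain ⟨κ', hκ'⟩ := hy
      exact ⟨κ + κ', fun h => by rw [map_add, LinearMap.add_apply, hκ, hκ', t_add, map_add]⟩
  | add d d' hd hd' =>
    obtain ⟨κ, hκ⟩ := hd
    obtain ⟨κ', hκ'⟩ := hd'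
    exact ⟨κ + κ', fun h => by
      rw [map_add, LinearMap.add_apply, hκ, hκ', map_add, LinearMap.add_apply]⟩

end Eps

section Main

variable {t : ℕ} (m : Fin t → M) (g : Fin t → ℤ) (hmg : ∀ i, m i ∈ ℳ (g i))
  (hm : Function.Surjective (Fintype.linearCombination R m))
  (t_gen : ∀ u : Q, ∃ h : Fin t → P, u = ∑ i, τ (m i) (h i))
  (t_rel : ∀ h : Fin t → P, ∑ i, τ (m i) (h i) = 0 →
    ∃ (s : ℕ) (z : Fin s → Fin t → R) (h' : Fin s → P),
      (∀ j, ∑ i, z j i • m i = 0) ∧ ∀ i, h i = ∑ j, z j i • h' j)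

include hK t_rel in
/-- well-definedness of the functional attached to `φ` -/
lemma wd (φ : M →ₗ[R] K) (h : Fin t → P) (h0 : ∑ i, τ (m i) (h i) = 0) :
    ∑ i, βK (φ (m i)) (h i) = 0 := by
  obtain ⟨s, z, h', hz, hh⟩ := t_rel h h0
  have h1 : ∀ i, βK (φ (m i)) (h i) = ∑ j, βK (φ (z j i • m i)) (h' j) := by
    intro i
    rw [hh i, map_sum]
    refine Finset.sum_congr rfl (fun j _ => ?_)
    rw [φ.map_smul, hK.map_smul]
  rw [Finset.sum_congr rfl (fun i _ => h1 i), Finset.sum_comm]
  refine Finset.sum_eq_zero (fun j _ => ?_)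
  have h2 : ∑ i, βK (φ (z j i • m i)) (h' j) = βK (φ (∑ i, z j i • m i)) (h' j) := by
    rw [map_sum, map_sum, LinearMap.sum_apply]
  rw [h2, hz j, map_zero, map_zero, LinearMap.zero_apply]

include hK hD t_add t_smul t_gr hmg hm t_gen t_rel in
/-- **abstract graded duality** -/
theorem duality :
    ∃ ε : D ≃ₗ[R] (M →ₗ[R] K),
      ∀ (e : ℤ) (d : D), d ∈ 𝒟 e → ∀ (g' : ℤ) (x : M), x ∈ ℳ g' → ε d x ∈ 𝒦 (g' + e) := by
  classical
  -- the values of `ε`
  choose e0 he0 using exists_kappa ℳ pP qQ 𝒦 βK hK 𝒟 βD hD τ t_add t_gr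
  have huniq : ∀ (d : D) (x : M) (κ : K), (∀ h : P, βK κ h = βD d (τ x h)) → κ = e0 d x := by
    intro d x κ hκ
    rw [← sub_eq_zero]
    apply sepD pP 𝒦 βK hK
    intro h
    rw [map_sub, LinearMap.sub_apply, hκ, he0, sub_self]
  let εm : D → (M →ₗ[R] K) := fun d =>
    { toFun := e0 d
      map_add' := fun x y => by
        symm; apply huniq; intro h
        rw [map_add, LinearMap.add_apply, he0, he0, t_add, map_add]
      map_smul' := fun r x => by
        symm; apply huniq; intro h
        rw [RingHom.id_apply, hK.map_smul, he0, t_smul] }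
  let ε : D →ₗ[R] (M →ₗ[R] K) :=
    { toFun := εm
      map_add' := fun d d' => by
        apply LinearMap.ext; intro x
        change e0 (d + d') x = e0 d x + e0 d' x
        symm; apply huniq; intro h
        rw [map_add, LinearMap.add_apply, he0, he0, map_add, LinearMap.add_apply]
      map_smul' := fun r d => by
        apply LinearMap.ext; intro x
        change e0 (r • d) x = r • e0 d x
        symm; apply huniq; intro h
        rw [hK.map_smul, he0, hD.map_smul, map_smul] }
  have hεapp : ∀ d x, ε d x = e0 d x := fun d x => rfl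
  have hgr : ∀ (e : ℤ) (d : D), d ∈ 𝒟 e → ∀ (g' : ℤ) (x : M), x ∈ ℳ g' → ε d x ∈ 𝒦 (g' + e) := by
    intro e d hd g' x hx
    obtain ⟨κ, hκ, hκh⟩ := exists_kappa_homog ℳ pP qQ 𝒦 βK hK 𝒟 βD hD τ t_gr hd hx
    rw [hεapp, ← huniq d x κ hκh]
    exact hκ
  have hinj : Function.Injective ε := by
    rw [injective_iff_map_eq_zero]
    intro d hd
    apply sepD qQ 𝒟 βD hD
    intro u
    obtain ⟨h, rfl⟩ := t_gen u
    rw [map_sum]
    refine Finset.sum_eq_zero (fun i _ => ?_)
    rw [← he0 d (m i) (h i), ← hεapp, hd, LinearMap.zero_apply, map_zero, LinearMap.zero_apply]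
  have hsurj : Function.Surjective ε := by
    intro φ
    -- the functional on `Q`
    choose rep hrep using t_gen
    have hwd := wd pP 𝒦 βK hK τ m t_rel φ
    have hval : ∀ h : Fin t → P, ∑ i, βK (φ (m i)) (rep (∑ i, τ (m i) (h i)) i) =
        ∑ i, βK (φ (m i)) (h i) := by
      intro h
      rw [← sub_eq_zero, ← Finset.sum_sub_distrib]
      have h1 := hwd (fun i => rep (∑ i, τ (m i) (h i)) i - h i) (by
        simp only [map_sub, Finset.sum_sub_distrib]
        rw [← hrep, sub_self])
      simpa only [map_sub] using h1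
    let lam : Q →ₗ[k] k :=
      { toFun := fun u => ∑ i, βK (φ (m i)) (rep u i)
        map_add' := fun u u' => by
          have h1 := hval (fun i => rep u i + rep u' i)
          simp only [map_add, Finset.sum_add_distrib] at h1
          rw [← hrep u, ← hrep u'] at h1
          exact h1
        map_smul' := fun c u => by
          have h1 := hval (fun i => c • rep u i)
          have h2 : ∑ i, τ (m i) (c • rep u i) = c • u := by
            conv_rhs => rw [hrep u, Finset.smul_sum]
            refine Finset.sum_congr rfl (fun i _ => ?_)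
            rw [← algebraMap_smul R c (rep u i), map_smul, algebraMap_smul]
          rw [h2] at h1
          rw [h1, RingHom.id_apply, Finset.smul_sum]
          refine Finset.sum_congr rfl (fun i _ => ?_)
          rw [map_smul] }
    have hlam : ∀ h : Fin t → P, lam (∑ i, τ (m i) (h i)) = ∑ i, βK (φ (m i)) (h i) := hval
    -- `lam (τ x h) = βK (φ x) h` for every `x`
    have hlamτ : ∀ (x : M) (h : P), lam (τ x h) = βK (φ x) h := by
      intro x h
      obtain ⟨r, rfl⟩ := hm x
      rw [Fintype.linearCombination_apply]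
      have h1 : τ (∑ i, r i • m i) h = ∑ i, τ (m i) (r i • h) := by
        have hsum : ∀ (s : Finset (Fin t)), τ (∑ i ∈ s, r i • m i) h = ∑ i ∈ s, τ (m i) (r i • h) := by
          intro s
          induction s using Finset.induction_on with
          | empty => simp only [Finset.sum_empty]; exact t_zero τ t_add h
          | insert a s ha ih => rw [Finset.sum_insert ha, Finset.sum_insert ha, t_add, ih, t_smul]
        exact hsum Finset.univ
      rw [h1, hlam, map_sum, map_sum, LinearMap.sum_apply]
      refine Finset.sum_congr rfl (fun i _ => ?_)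
      rw [φ.map_smul, hK.map_smul]
    -- the support of `lam`
    let F : Finset ℤ := Finset.univ.biUnion
      (fun i : Fin t => (decompose 𝒦 (φ (m i))).support.image (fun c => g i - c))
    have hF : ∀ (j' : ℤ) (u : Q), u ∈ qQ j' → j' ∉ F → lam u = 0 := by
      intro j' u hu hj'
      have hdeg : ∀ i, GrLC.IsGrHomDeg pP qQ (τ (m i)) (g i) :=
        fun i j h hh => t_gr (g i) (m i) (hmg i) j h hh
      have h1 : u = ∑ i, τ (m i) (proj pP (j' - g i) (rep u i)) := by
        have h2 : proj qQ j' u = proj qQ j' (∑ i, τ (m i) (rep u i)) :=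
          congrArg (proj qQ j') (hrep u)
        rw [proj_of_mem_same qQ hu, map_sum] at h2
        refine h2.trans ?_
        refine Finset.sum_congr rfl (fun i _ => ?_)
        have h3 := proj_map_of_isGrHomDeg pP qQ (hdeg i) (rep u i) (j' - g i)
        rw [sub_add_cancel] at h3
        exact h3
      rw [h1, hlam]
      refine Finset.sum_eq_zero (fun i _ => ?_)
      rw [pair_eq_proj_left pP 𝒦 βK hK (proj_mem pP (j' - g i) (rep u i)) (φ (m i))]
      have h4 : proj 𝒦 (-(j' - g i)) (φ (m i)) = 0 := by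
        by_contra hne
        apply hj'
        rw [Finset.mem_biUnion]
        refine ⟨i, Finset.mem_univ i, Finset.mem_image.mpr ⟨-(j' - g i), ?_, by ring⟩⟩
        rw [DFinsupp.mem_support_toFun]
        intro h0
        apply hne
        rw [proj_apply, h0]
        rfl
      rw [h4, map_zero, LinearMap.zero_apply]
    -- the element of `D`
    choose dd hdd hdd' using fun j' : ℤ => hD.exists_eq (-j') lam
    have hdd'' : ∀ (j' : ℤ) (u : Q), u ∈ qQ j' → βD (dd j') u = lam u :=
      fun j' u hu => hdd' j' u (by rw [neg_neg]; exact hu)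
    have hd : ∀ u : Q, βD (∑ j' ∈ F, dd j') u = lam u := by
      intro u
      induction u using DirectSum.Decomposition.inductionOn qQ with
      | zero => simp
      | @homogeneous j'' u =>
        rw [map_sum, LinearMap.sum_apply]
        by_cases hj : j'' ∈ F
        · rw [Finset.sum_eq_single_of_mem j'' hj, hdd'' j'' u u.2]
          intro j' _ hne
          exact hD.vanish (-j') (dd j') (hdd j') j'' (fun h => hne (by omega)) u u.2
        · rw [hF j'' u u.2 hj]
          refine Finset.sum_eq_zero (fun j' hj' => ?_)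
          have hne : j' ≠ j'' := fun h => hj (h ▸ hj')
          exact hD.vanish (-j') (dd j') (hdd j') j'' (fun h => hne (by omega)) u u.2
      | add u u' hu hu' => rw [map_add, map_add, hu, hu']
    refine ⟨∑ j' ∈ F, dd j', ?_⟩
    apply LinearMap.ext
    intro x
    rw [hεapp]
    symm
    apply huniq
    intro h
    rw [hd, hlamτ]
  exact ⟨LinearEquiv.ofBijective ε ⟨hinj, hsurj⟩, hgr⟩

end Main

end TopDual
end Groth.Agent.Helper9.GDualLib
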